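import Groth.Agent.Lib.TwTensor11.Crit
import Groth.Agent.Lib.GrMod11.Frac
import Groth.Agent.Lib.GrTw11.Frac

/-!
The pairing of `M(m)~` with `O(n)` into `M(m + n)~`, and local frames of `O(n)`.
-/

set_option autoImplicit false

open CategoryTheory CategoryTheory.Limits AlgebraicGeometry TopologicalSpace Opposite

universe u

namespace Groth.Agent.TwTensor11

open Groth.Agent.GrMod11 Groth.Agent.M2

variable {A σ : Type u} [CommRing A] [SetLike σ A] [AddSubgroupClass σ A] (𝒜 : ℕ → σ) [GradedRing 𝒜]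
  {M τ : Type u} [AddCommGroup M] [Module A M] [SetLike τ M] [AddSubgroupClass τ M] (ℳ : ℕ → τ)
  [SetLike.GradedSMul 𝒜 ℳ]

variable {m n k : ℤ}

theorem smul_mem_tildeAt (hk : m + n = k) {x : ProjectiveSpectrum 𝒜} {p : GrTwist.Loc 𝒜 x}
    (hp : p ∈ GrTwist.twistAt 𝒜 n x) {q : GrMod.LocMod 𝒜 (M := M) x} (hq : q ∈ GrMod.tildeAt 𝒜 ℳ m x) :
    p • q ∈ GrMod.tildeAt 𝒜 ℳ k x := by
  rcases exists_frac 𝒜 ℳ hq with rfl | ⟨i, j, a, s, hs, ha, hsm, hij, rfl⟩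
  · rw [smul_zero]; exact zero_mem _
  refine Submodule.span_induction (p := fun p _ => p • mkx 𝒜 x a s hs ∈ GrMod.tildeAt 𝒜 ℳ k x) ?_ ?_ ?_ ?_ hp
  · rintro _ ⟨i', j', b, t, ht, hij', rfl⟩
    have hts : (t : A) * s ∉ x.asHomogeneousIdeal := fun h => (x.isPrime.mem_or_mem h).elim ht hs
    rw [mk_smul_mkx 𝒜 _ _ a s ht hs hts]
    exact GrMod11.mk_mem 𝒜 ℳ (GrMod11.smul_mem_graded 𝒜 b.2 ha) (SetLike.mul_mem_graded t.2 hsm) hts
      (Or.inl (by push_cast; omega))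
  · rw [zero_smul]; exact zero_mem _
  · intro u v _ _ hu hv; rw [add_smul]; exact add_mem hu hv
  · intro c u _ hu
    rw [Algebra.smul_def, mul_smul, HomogeneousLocalization.algebraMap_apply, ← GrMod.a0_smul_def]
    exact Submodule.smul_mem _ c hu

variable {𝒜 ℳ}

/-- The pairing of sections. -/
noncomputable def pairSec (hk : m + n = k) {U : (Proj 𝒜).Opens} (s : GrMod11.Sec (ℳ := ℳ) m U)
    (t : GrTw11.Sec (𝒜 := 𝒜) n U) : GrMod11.Sec (ℳ := ℳ) k U :=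
  ⟨fun x => ⟨GrTw11.val t x.1 x.2 • GrMod11.val s x.1 x.2,
      smul_mem_tildeAt 𝒜 ℳ hk (GrTw11.val_mem t x.1 x.2) (GrMod11.val_mem s x.1 x.2)⟩, by
    intro x
    obtain ⟨e, i, f, a, -, hf, ha, hi, hxf, hfU, hs⟩ := GrMod11.exists_local_frac 𝒜 ℳ s x.1 x.2
    obtain ⟨e', i', g, b, -, hg, hb, hi', hxg, hgU, ht⟩ := GrTw11.exists_local_frac 𝒜 t x.1 x.2
    refine ⟨Proj.basicOpen 𝒜 (g * f), fun h => (x.1.isPrime.mem_or_mem h).elim hxg hxf,
      homOfLE ((Proj.basicOpen_mono 𝒜 _ _ (dvd_mul_left f g)).trans hfU), i' + i, e' + e,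
      ⟨b • a, GrMod11.smul_mem_graded 𝒜 hb ha⟩, ⟨g * f, SetLike.mul_mem_graded hg hf⟩, fun y => y.2,
      Or.inl (by push_cast; omega), fun y => ?_⟩
    have hyg : g ∉ y.1.asHomogeneousIdeal := fun h => y.2 (Ideal.mul_mem_right _ _ h)
    have hyf : f ∉ y.1.asHomogeneousIdeal := fun h => y.2 (Ideal.mul_mem_left _ _ h)
    show GrTw11.val t y.1 _ • GrMod11.val s y.1 _ = _
    rw [ht y.1 (hgU hyg) hyg, hs y.1 (hfU hyf) hyf, mk_smul_mkx 𝒜 b g a f hyg hyf y.2]⟩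

theorem val_pairSec (hk : m + n = k) {U : (Proj 𝒜).Opens} (s : GrMod11.Sec (ℳ := ℳ) m U)
    (t : GrTw11.Sec (𝒜 := 𝒜) n U) (x : ProjectiveSpectrum 𝒜) (hx : x ∈ U) :
    GrMod11.val (pairSec hk s t) x hx = GrTw11.val t x hx • GrMod11.val s x hx := rfl

variable (𝒜 ℳ) in
/-- The pairing, as a bilinear datum. -/
noncomputable def pairMap (hk : m + n = k) :
    BiMap (GrMod.tilde 𝒜 ℳ m) (GrTwist.twist 𝒜 n) (GrMod.tilde 𝒜 ℳ k) where
  f U s t := pairSec hk s t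
  add_left U s s' t := GrMod11.sec_ext fun x hx => smul_add (GrTw11.val (n := n) t x hx) _ _
  smul_left U r s t := GrMod11.sec_ext fun x hx => by
    rw [GrMod11.val_smul]
    show GrTw11.val (n := n) t x hx • GrMod11.val (n := m) (r • s) x hx = _
    rw [GrMod11.val_smul, smul_comm]
    rfl
  add_right U s t t' := GrMod11.sec_ext fun x hx => add_smul _ _ (GrMod11.val (n := m) s x hx)
  smul_right U r s t := GrMod11.sec_ext fun x hx => by
    rw [GrMod11.val_smul]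
    show (GrTw11.val (n := n) (r • t) x hx) • GrMod11.val (n := m) s x hx = _
    rw [show GrTw11.val (n := n) (r • t) x hx = GrTw11.valO r x hx * GrTw11.val (n := n) t x hx from
      GrTwist.coe_smul_val n x (r.1 ⟨x, hx⟩) (t.1 ⟨x, hx⟩), mul_smul]
    rfl
  compat h s t := GrMod11.sec_ext fun x hx => rfl

/-- A section of `O(n)` with an inverse in `O(-n)` pairs bijectively. -/
theorem bijective_pairSec (hk : m + n = k) {U : (Proj 𝒜).Opens} (e : GrTw11.Sec (𝒜 := 𝒜) n U)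
    (e' : GrTw11.Sec (𝒜 := 𝒜) (-n) U) (he : ∀ x hx, GrTw11.val e x hx * GrTw11.val e' x hx = 1) :
    Function.Bijective fun s : GrMod11.Sec (ℳ := ℳ) m U => pairSec hk s e := by
  refine Function.bijective_iff_has_inverse.2 ⟨fun w => pairSec (k := m) (show k + -n = m by omega) w e',
    fun s => GrMod11.sec_ext fun x hx => ?_, fun w => GrMod11.sec_ext fun x hx => ?_⟩
  · rw [val_pairSec, val_pairSec, smul_smul, mul_comm, he, one_smul]
  · show GrMod11.val (pairSec hk (pairSec _ w e') e) x hx = _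
    rw [val_pairSec, val_pairSec, smul_smul, he, one_smul]

/-- On `D₊(g)` with `g` of degree one, `O(n)` has a frame with an inverse. -/
theorem exists_frame (n : ℤ) {g : A} (hg : g ∈ 𝒜 1) :
    ∃ (e : GrTw11.Sec (𝒜 := 𝒜) n (Proj.basicOpen 𝒜 g)) (e' : GrTw11.Sec (𝒜 := 𝒜) (-n) (Proj.basicOpen 𝒜 g)),
      ∀ x hx, GrTw11.val e x hx * GrTw11.val e' x hx = 1 := by
  have hp : ∀ j : ℕ, g ^ j ∈ 𝒜 j := fun j => by simpa [smul_eq_mul] using SetLike.pow_mem_graded j hg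
  have hle : ∀ j : ℕ, Proj.basicOpen 𝒜 g ≤ Proj.basicOpen 𝒜 (g ^ j) := fun j x hx => GrTw11.pow_notMem 𝒜 hx j
  refine ⟨GrTw11.frac 𝒜 _ (hp n.toNat) (hp (-n).toNat) (by omega) (hle _),
    GrTw11.frac 𝒜 _ (hp (-n).toNat) (hp n.toNat) (by omega) (hle _), fun x hx => ?_⟩
  rw [GrTw11.val_frac, GrTw11.val_frac, Localization.mk_mul]
  refine Eq.trans ?_ (Localization.mk_self (⟨g ^ (-n).toNat * g ^ n.toNat,
    fun h => (x.isPrime.mem_or_mem h).elim (hle _ hx) (hle _ hx)⟩ : x.asHomogeneousIdeal.toIdeal.primeCompl))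
  exact congrArg₂ Localization.mk (mul_comm _ _) (Subtype.ext rfl)

/-- A frame generates. -/
theorem exists_smul_eq {U V : (Proj 𝒜).Opens} (hV : V ≤ U) (e : GrTw11.Sec (𝒜 := 𝒜) n U)
    (e' : GrTw11.Sec (𝒜 := 𝒜) (-n) U) (he : ∀ x hx, GrTw11.val e x hx * GrTw11.val e' x hx = 1)
    (t : Γ(GrTwist.twist 𝒜 n, V)) :
    ∃ r : Γ(Proj 𝒜, V), r • res (GrTwist.twist 𝒜 n) hV e = t := by
  obtain ⟨r, hr⟩ := GrTw11.exists_valO_eq
    (GrTw11.castSec (add_neg_cancel n) (GrTw11.mulSec t (GrTwist.resN (-n) (homOfLE hV).op e')))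
  refine ⟨r, GrTw11.sec_ext fun x hx => ?_⟩
  refine (GrTwist.coe_smul_val n x (r.1 ⟨x, hx⟩) _).trans ?_
  show GrTw11.valO r x hx * GrTw11.val (n := n) e x (hV hx) = _
  rw [hr, GrTw11.val_castSec, GrTw11.val_mulSec,
    show GrTw11.val (GrTwist.resN (-n) (homOfLE hV).op e') x hx = GrTw11.val e' x (hV hx) from rfl,
    mul_assoc, mul_comm (GrTw11.val e' x (hV hx)), he, mul_one]

theorem exists_degOne_notMem (hgen : (HomogeneousIdeal.irrelevant 𝒜).toIdeal ≤ Ideal.span (𝒜 1 : Set A))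
    (x : ProjectiveSpectrum 𝒜) : ∃ g ∈ 𝒜 1, g ∉ x.asHomogeneousIdeal := by
  by_contra h
  push Not at h
  exact x.not_irrelevant_le fun a ha => (hgen.trans (Ideal.span_le.2 h)) ha

/-- Near each point some section of `O(n)` pairs bijectively and generates. -/
theorem exists_good (hk : m + n = k) (hgen : (HomogeneousIdeal.irrelevant 𝒜).toIdeal ≤ Ideal.span (𝒜 1 : Set A))
    (x : Proj 𝒜) :
    ∃ (U : (Proj 𝒜).Opens) (_ : x ∈ U) (e : Γ(GrTwist.twist 𝒜 n, U)),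
      (∀ (V : (Proj 𝒜).Opens) (hV : V ≤ U) (t : Γ(GrTwist.twist 𝒜 n, V)),
        ∃ r : Γ(Proj 𝒜, V), r • res (GrTwist.twist 𝒜 n) hV e = t) ∧
      ∀ (V : (Proj 𝒜).Opens) (hV : V ≤ U), Function.Bijective
        fun s : Γ(GrMod.tilde 𝒜 ℳ m, V) => (pairMap 𝒜 ℳ hk).f V s (res (GrTwist.twist 𝒜 n) hV e) := by
  obtain ⟨g, hg, hxg⟩ := exists_degOne_notMem hgen x
  obtain ⟨e, e', he⟩ := exists_frame n hg
  exact ⟨Proj.basicOpen 𝒜 g, hxg, e, fun V hV t => exists_smul_eq hV e e' he t, fun V hV =>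
    bijective_pairSec hk _ (GrTwist.resN (-n) (homOfLE hV).op e') fun y hy => he y (hV hy)⟩

theorem isIso_pairHom (hk : m + n = k) (hgen : (HomogeneousIdeal.irrelevant 𝒜).toIdeal ≤ Ideal.span (𝒜 1 : Set A)) :
    IsIso (mkHom (pairMap 𝒜 ℳ hk)) :=
  isIso_mkHom _ (exists_good hk hgen)

end Groth.Agent.TwTensor11
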