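import Groth.Agent.Lib.TwTensor11.RelCases
import Groth.Agent.Lib.PullBC11.Transfer
import Groth.Agent.Lib.PullBC11.Twist

/-!
`O(-n)` inverts `O(n)` where degree `n` elements generate locally.
-/

set_option autoImplicit false
set_option linter.style.haveILetI false

open CategoryTheory CategoryTheory.Limits AlgebraicGeometry TopologicalSpace Opposite

universe u

namespace Groth.Agent.TwTensor11

open Groth.Agent.RelProj11 Groth.Agent.M2

variable {S P : Scheme.{u}} {𝒮 : RelProj.QCGrAlg S} {p : P ⟶ S}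
  {chart : ∀ (U : S.Opens) (hU : IsAffineOpen U), ((p ⁻¹ᵁ U : P.Opens) : Scheme.{u}) ≅ Proj (𝒮.deg U hU)}

theorem secHom_app {X : Scheme.{u}} {M : X.Modules} (s : Γ(M, ⊤)) (W : X.Opens) (r : Γ(X, W)) :
    (M1.secHom s).app W (r : Γ(Coh.structureModule X, W)) = r • M1.mres M le_top s := by
  have h1 : (M1.secHom s).app W (M1.one W) = M1.mres M le_top s := by
    rw [← M1.mres_one (le_top : W ≤ ⊤), M1.app_mres, M1.secHom_app_one]
  rw [← h1, ← Scheme.Modules.Hom.app_smul]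
  exact congrArg _ (mul_one r).symm

/-- The unit section of `O(0)`. -/
noncomputable def one₀ {A σ : Type u} [CommRing A] [SetLike σ A] [AddSubgroupClass σ A] (𝒜 : ℕ → σ) [GradedRing 𝒜]
    (U : (Proj 𝒜).Opens) : Γ(GrTwist.twist 𝒜 0, U) :=
  GrTw11.frac 𝒜 U SetLike.GradedOne.one_mem SetLike.GradedOne.one_mem (by simp)
    fun x _ => GrTw11.one_notMem_prime 𝒜 x

theorem val_one₀ {A σ : Type u} [CommRing A] [SetLike σ A] [AddSubgroupClass σ A] {𝒜 : ℕ → σ} [GradedRing 𝒜]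
    {U : (Proj 𝒜).Opens} (x : ProjectiveSpectrum 𝒜) (hx : x ∈ U) :
    GrTw11.val (n := 0) (one₀ 𝒜 U) x hx = 1 :=
  Localization.mk_one

/-- The structure sheaf as the twisting sheaf of degree zero. -/
noncomputable def lam₀ : Ident chart (fun U hU => GrTwist.twist (𝒮.deg U hU) 0) (Coh.structureModule P) :=
  fun _ _ => M1.secHom (one₀ _ _)

theorem val_lam₀ {U : S.Opens} {hU : IsAffineOpen U} {W : P.Opens} (r : Γ(P, W)) (y : ProjectiveSpectrum (𝒮.deg U hU))
    (hy : y ∈ RelProj.emb p chart U hU ⁻¹ᵁ W) :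
    GrTw11.val (n := 0) (U := RelProj.emb p chart U hU ⁻¹ᵁ W)
        ((lam₀ (chart := chart) U hU).app W (r : Γ(Coh.structureModule P, W))) y hy =
      GrTw11.valO ((RelProj.emb p chart U hU).app W r) y hy := by
  refine (congrArg (fun t => GrTw11.val (n := 0) (U := RelProj.emb p chart U hU ⁻¹ᵁ W) t y hy) (secHom_app _ W r)).trans ?_
  refine (GrTw11.val_smul _ _ y hy).trans ?_
  exact (congrArg (_ * ·) (val_one₀ y hy)).trans (mul_one _)

theorem isRelTwist_lam₀ (hP : RelProj.IsRelProj 𝒮 p chart) :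
    RelProj.IsRelTwist 𝒮 p chart 0 (Coh.structureModule P) lam₀ := by
  refine ⟨fun U hU W hW => ?_, fun U hU r W s y hy hy' => ?_⟩
  · haveI := Scheme.Hom.isIso_app (RelProj.emb p chart U hU) W (le_opensRange_emb hW)
    have h := (GrTw11.bijective_smul_of_inverse (n := 0) (one₀ (𝒮.deg U hU) ⊤)
      (GrTw11.castSec neg_zero.symm (one₀ (𝒮.deg U hU) ⊤)) (fun x hx => by
        rw [GrTw11.val_castSec]
        exact (congrArg (_ * ·) (val_one₀ x hx)).trans ((mul_one _).trans (val_one₀ x hx)))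
      (RelProj.emb p chart U hU ⁻¹ᵁ W) le_top).comp
      (ConcreteCategory.bijective_of_isIso ((RelProj.emb p chart U hU).app W))
    exact ⟨fun a b e => h.1 (((secHom_app _ W a).symm.trans e).trans (secHom_app _ W b)),
      fun t => (h.2 t).elim fun r hr => ⟨r, (secHom_app _ W r).trans hr⟩⟩
  · refine (val_lam₀ (r := (s : Γ(P, W))) y hy).trans (Eq.trans ?_ (congrArg _ (val_lam₀ (r := (s : Γ(P, W))) _ hy')).symm)
    have sq : RelProj.emb p chart (S.basicOpen r) (hU.basicOpen r) ≫ 𝟙 P =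
        Proj.map (𝒮.res hU (hU.basicOpen r) (S.basicOpen_le r)) (𝒮.irrelevant_le_map U hU r) ≫
          RelProj.emb p chart U hU := by
      rw [Category.comp_id, RelProj.map_res_emb hP U hU r]
    refine (congrArg (fun c => GrTw11.valO c y hy) ?_).trans (PullBC11.valO_appLE_map _ _
      (PullBC11.preimage_le sq (le_refl W)) _ y hy)
    refine Eq.trans ?_ (PullBC11.app_appLE sq (le_refl W) (s : Γ(P, W)))
    have hid : (𝟙 P : P ⟶ P).appLE W W (le_refl W) = 𝟙 _ :=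
      (Scheme.Hom.appLE_eq_app (𝟙 P)).trans (Scheme.Hom.id_app _)
    exact (congrArg _ (congr($hid (s : Γ(P, W))))).symm

theorem exists_frame_of_dvd {A σ : Type u} [CommRing A] [SetLike σ A] [AddSubgroupClass σ A] {𝒜 : ℕ → σ}
    [GradedRing 𝒜] {g : A} {e : ℕ} (hg : g ∈ 𝒜 e) {n : ℤ} (hn : (e : ℤ) ∣ n) :
    ∃ (s : GrTw11.Sec (𝒜 := 𝒜) n (Proj.basicOpen 𝒜 g)) (s' : GrTw11.Sec (𝒜 := 𝒜) (-n) (Proj.basicOpen 𝒜 g)),
      ∀ x hx, GrTw11.val s x hx * GrTw11.val s' x hx = 1 := by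
  obtain ⟨k, rfl⟩ := hn
  have hle : ∀ j : ℕ, Proj.basicOpen 𝒜 g ≤ Proj.basicOpen 𝒜 (g ^ j) := fun j x hx => GrTw11.pow_notMem 𝒜 hx j
  refine ⟨GrTw11.frac 𝒜 _ (SetLike.pow_mem_graded k.toNat hg) (SetLike.pow_mem_graded (-k).toNat hg) ?_ (hle _),
    GrTw11.frac 𝒜 _ (SetLike.pow_mem_graded (-k).toNat hg) (SetLike.pow_mem_graded k.toNat hg) ?_ (hle _),
    fun x hx => GrTw11.mk_mul_mk_eq_one 𝒜 (hle _ hx) (hle _ hx)⟩
  all_goals
    simp only [smul_eq_mul]
    push_cast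
    have h := Int.toNat_sub_toNat_neg k
    nlinarith [h, congrArg (fun z => (e : ℤ) * z) h]

theorem appIso_inv_eq {X : Scheme.{u}} (U : X.Opens) (W : (U : Scheme.{u}).Opens) (r : Γ((U : Scheme.{u}), W)) :
    (U.ι.appIso W).inv r = r := by
  rw [Scheme.Opens.ι_appIso]; rfl

/-- A pairing into the structure sheaf, restricted to an open. -/
noncomputable def restrictBi {X : Scheme.{u}} {L L' : X.Modules} (ν : CohB1.tensorMod L L' ⟶ Coh.structureModule X)
    (U : X.Opens) : BiMap (L.restrict U.ι) (L'.restrict U.ι) (Coh.structureModule (U : Scheme.{u})) where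
  f := fun W s t => ν.app (U.ι ''ᵁ W) (tsec L L' s t)
  add_left := fun W s s' t => (congrArg _ (tsec_add_left (U := U.ι ''ᵁ W) s s' t)).trans (map_add _ _ _)
  smul_left := fun W r s t => by
    refine Eq.trans (congrArg (fun z => ν.app (U.ι ''ᵁ W) (tsec L L' z t))
      (show (r • s : Γ(L.restrict U.ι, W)) = ((U.ι.appIso W).inv r • (show Γ(L, U.ι ''ᵁ W) from s)) from rfl)) ?_
    rw [tsec_smul_left, Scheme.Modules.Hom.app_smul, appIso_inv_eq]
    rfl
  add_right := fun W s t t' => (congrArg _ (tsec_add_right (U := U.ι ''ᵁ W) s t t')).trans (map_add _ _ _)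
  smul_right := fun W r s t => by
    refine Eq.trans (congrArg (fun z => ν.app (U.ι ''ᵁ W) (tsec L L' s z))
      (show (r • t : Γ(L'.restrict U.ι, W)) = ((U.ι.appIso W).inv r • (show Γ(L', U.ι ''ᵁ W) from t)) from rfl)) ?_
    rw [tsec_smul_right, Scheme.Modules.Hom.app_smul, appIso_inv_eq]
    rfl
  compat := fun {W W'} h s t => by
    refine Eq.trans (congrArg (ν.app (U.ι ''ᵁ W')) (res_tsec (U.ι.image_mono h) s t).symm) ?_
    exact M1.app_mres ν (U.ι.image_mono h) _ 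

variable {n : ℤ} {L L' : P.Modules} {lam : Ident chart (fun V hV => GrTwist.twist (𝒮.deg V hV) n) L}
  {lam' : Ident chart (fun V hV => GrTwist.twist (𝒮.deg V hV) (-n)) L'}

/-- The chartwise product with values in `O(0)`. -/
noncomputable abbrev mul₀ (n : ℤ) (V : S.Opens) (hV : IsAffineOpen V) :
    BiMap (GrTwist.twist (𝒮.deg V hV) n) (GrTwist.twist (𝒮.deg V hV) (-n)) (GrTwist.twist (𝒮.deg V hV) 0) :=
  mulMap (𝒮.deg V hV) (add_neg_cancel n)

theorem exists_good_inverse (hP : RelProj.IsRelProj 𝒮 p chart) (hL : RelProj.IsRelTwist 𝒮 p chart n L lam)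
    (hL' : RelProj.IsRelTwist 𝒮 p chart (-n) L' lam') (ν : CohB1.tensorMod L L' ⟶ Coh.structureModule P)
    (hν : ∀ (V : S.Opens) (hV : IsAffineOpen V) (W : P.Opens) (s : Γ(L, W)) (t : Γ(L', W)),
      (lam₀ (chart := chart) V hV).app W (ν.app W (tsec L L' s t)) =
        (chartMap lam lam' (mul₀ n) V hV).f W s t)
    (U : P.Opens) (x : U) (V : S.Opens) (hV : IsAffineOpen V) {g : 𝒮.presheaf.obj (op V)} {k : ℕ}
    (hg : g ∈ 𝒮.deg V hV k) (hk : (k : ℤ) ∣ n)
    (hx : (x : P) ∈ RelProj.emb p chart V hV ''ᵁ Proj.basicOpen (𝒮.deg V hV) g) :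
    ∃ (W : (U : Scheme.{u}).Opens) (_ : x ∈ W) (e : Γ(L'.restrict U.ι, W)),
      (∀ (W' : (U : Scheme.{u}).Opens) (h : W' ≤ W) (t : Γ(L'.restrict U.ι, W')),
        ∃ r : Γ((U : Scheme.{u}), W'), r • res (L'.restrict U.ι) h e = t) ∧
      ∀ (W' : (U : Scheme.{u}).Opens) (h : W' ≤ W),
        Function.Bijective fun s => (restrictBi ν U).f W' s (res (L'.restrict U.ι) h e) := by
  obtain ⟨e, e', he⟩ := exists_frame_of_dvd (𝒜 := 𝒮.deg V hV) hg (dvd_neg.2 hk)
  let j := RelProj.emb p chart V hV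
  let T := GrTwist.twist (𝒮.deg V hV) (-n)
  let O := j ''ᵁ Proj.basicOpen (𝒮.deg V hV) g
  have hO : O ≤ p ⁻¹ᵁ V := image_emb_le _
  have hpre : j ⁻¹ᵁ O = Proj.basicOpen (𝒮.deg V hV) g := j.preimage_image_eq _
  obtain ⟨e₀, he₀⟩ := (hL'.bijective V hV O hO).2 (res T hpre.le e)
  let W₀ : (U : Scheme.{u}).Opens := U.ι ⁻¹ᵁ O
  have hW₀ : U.ι ''ᵁ W₀ ≤ O := fun _ ⟨z, hz, e⟩ => e ▸ hz
  have he₁ : ∀ (W : P.Opens) (hWO : W ≤ O), (lam' V hV).app W (res L' hWO e₀) =
      res T ((j.preimage_mono hWO).trans hpre.le) e := fun W hWO =>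
    ((M1.app_mres (lam' V hV) hWO e₀).trans (congrArg _ he₀)).trans (M1.mres_mres T _ _ (e : Γ(T, _)))
  refine ⟨W₀, hx, res L' hW₀ e₀, fun W hW t => ?_, fun W hW => ?_⟩
  · have hWO : U.ι ''ᵁ W ≤ O := (U.ι.image_mono hW).trans hW₀
    obtain ⟨r₀, hr₀⟩ := exists_smul_eq ((j.preimage_mono hWO).trans hpre.le) e e' he
      ((lam' V hV).app (U.ι ''ᵁ W) t)
    haveI : IsIso (j.app (U.ι ''ᵁ W)) := j.isIso_app _ (le_opensRange_emb (hWO.trans hO))
    obtain ⟨r, rfl⟩ := (ConcreteCategory.bijective_of_isIso (j.app (U.ι ''ᵁ W))).2 r₀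
    refine ⟨r, ?_⟩
    show ((U.ι.appIso W).inv r) • M1.mres L' (U.ι.image_mono hW) (M1.mres L' hW₀ e₀) = t
    rw [appIso_inv_eq, M1.mres_mres]
    refine (hL'.bijective V hV _ (hWO.trans hO)).1 ?_
    rw [Scheme.Modules.Hom.app_smul, he₁ _ hWO]
    exact hr₀
  · have hWO : U.ι ''ᵁ W ≤ O := (U.ι.image_mono hW).trans hW₀
    refine (Function.Bijective.of_comp_iff' ((isRelTwist_lam₀ hP).bijective V hV _ (hWO.trans hO)) _).1 ?_
    have hb := (bijective_mulMap (add_neg_cancel n)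
      (GrTwist.resN (-n) (homOfLE ((j.preimage_mono hWO).trans hpre.le)).op e)
      (GrTwist.resN (- -n) (homOfLE ((j.preimage_mono hWO).trans hpre.le)).op e') fun y hy => he y _).comp
      (hL.bijective V hV _ (hWO.trans hO))
    have key : ∀ s : Γ(L, U.ι ''ᵁ W),
        (lam₀ (chart := chart) V hV).app _ (ν.app (U.ι ''ᵁ W)
          (tsec L L' s (M1.mres L' (U.ι.image_mono hW) (M1.mres L' hW₀ e₀)))) =
        (mul₀ n V hV).f _ ((lam V hV).app _ s) (res T ((j.preimage_mono hWO).trans hpre.le) e) := fun s => by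
      rw [M1.mres_mres]
      refine (hν V hV _ s _).trans ?_
      show (mul₀ n V hV).f _ ((lam V hV).app _ s) ((lam' V hV).app _ _) = _
      rw [he₁ _ hWO]
    exact ⟨fun a b h => hb.1 ((key a).symm.trans (h.trans (key b))),
      fun t => (hb.2 t).elim fun s hs => ⟨s, (key s).trans hs⟩⟩

theorem exists_inverse (hP : RelProj.IsRelProj 𝒮 p chart) (U : P.Opens) (hUc : IsCompact (U : Set P)) :
    ∃ d : ℕ, 0 < d ∧ ∀ (n : ℤ), (d : ℤ) ∣ n →
      ∀ (L : P.Modules) (lam : Ident chart (fun V hV => GrTwist.twist (𝒮.deg V hV) n) L),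
        RelProj.IsRelTwist 𝒮 p chart n L lam →
      ∀ (L' : P.Modules) (lam' : Ident chart (fun V hV => GrTwist.twist (𝒮.deg V hV) (-n)) L'),
        RelProj.IsRelTwist 𝒮 p chart (-n) L' lam' →
          Nonempty (CohB1.tensorMod (L.restrict U.ι) (L'.restrict U.ι) ≅ Coh.structureModule (U : Scheme.{u})) := by
  classical
  let I := Σ V : S.affineOpens, {f : 𝒮.presheaf.obj (op V.1) // ∃ e : ℕ, 0 < e ∧ f ∈ 𝒮.deg V.1 V.2 e}
  let O : I → P.Opens := fun i => RelProj.emb p chart i.1.1 i.1.2 ''ᵁ Proj.basicOpen (𝒮.deg i.1.1 i.1.2) i.2.1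
  obtain ⟨T, hT⟩ := hUc.elim_finite_subcover (fun i => (O i : Set P)) (fun i => (O i).2) (fun x _ => by
    obtain ⟨V, hV, y, rfl⟩ := exists_emb_eq (chart := chart) x
    obtain ⟨⟨f, hf⟩, hy⟩ := Opens.mem_iSup.1 ((iSup_basicOpen_pos (𝒮.deg V hV)).ge (Set.mem_univ y))
    exact Set.mem_iUnion.2 ⟨⟨⟨V, hV⟩, f, hf⟩, y, hy, rfl⟩)
  refine ⟨∏ i ∈ T, i.2.2.choose, Finset.prod_pos fun i _ => i.2.2.choose_spec.1,
    fun n hn L lam hL L' lam' hL' => ?_⟩
  obtain ⟨ν, hν, -⟩ := existsUnique_lift hP (isRelTwist_lam₀ hP)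
    (fun V hV => mkHom (chartMap lam lam' (mul₀ n) V hV)) fun V D hV hD h => by
      refine tensorMod_hom_ext fun W s t => ?_
      rw [Scheme.Modules.Hom.comp_app]
      refine ((congrArg ((resMap hP 0 hV hD h).app W) (mkHom_tsec (chartMap lam lam' (mul₀ n) V hV) s t)).trans ?_).trans
        (mkHom_tsec (chartMap lam lam' (mul₀ n) D hD) s t).symm
      obtain ⟨r, rfl⟩ := h
      refine GrTw11.sec_ext (n := 0) fun y hy => ?_
      refine (resMap_val hP 0 hV hD ⟨r, rfl⟩ W _ y hy).trans ?_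
      refine (congrArg _ (val_mulMap _ ((lam V hV).app W s) ((lam' V hV).app W t) _ _)).trans ?_
      refine ((map_mul _ _ _).trans ?_).trans (val_mulMap _ ((lam _ hD).app W s) ((lam' _ hD).app W t) y hy).symm
      exact (congrArg₂ (· * ·) (hL.compat V hV r W s y hy (comap_mem hV hD ⟨r, rfl⟩ hy hP)).symm
        (hL'.compat V hV r W t y hy (comap_mem hV hD ⟨r, rfl⟩ hy hP)).symm)
  let β := restrictBi ν U
  suffices IsIso (mkHom β) from ⟨asIso (mkHom β)⟩
  refine isIso_mkHom β fun x => ?_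
  obtain ⟨i, hi, hx⟩ := Set.mem_iUnion₂.1 (hT x.2)
  exact exists_good_inverse hP hL hL' ν (fun V hV W s t =>
      (congr($(congrArg (fun f => Scheme.Modules.Hom.app f W) (hν V hV)) (tsec L L' s t))).trans (mkHom_tsec _ s t))
    U x i.1.1 i.1.2 i.2.2.choose_spec.2 ((Int.natCast_dvd_natCast.2 (Finset.dvd_prod_of_mem _ hi)).trans hn) hx

end Groth.Agent.TwTensor11
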