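import Groth.Agent.Lib.TwTensor11.RelTensor

/-!
Tensor products with the twisting sheaves on a relative `Proj`.
-/

set_option autoImplicit false

open CategoryTheory CategoryTheory.Limits AlgebraicGeometry TopologicalSpace Opposite

universe u

namespace Groth.Agent.TwTensor11

open Groth.Agent.RelProj11

variable {S P : Scheme.{u}} {𝒮 : RelProj.QCGrAlg S} {p : P ⟶ S}
  {chart : ∀ (U : S.Opens) (hU : IsAffineOpen U), ((p ⁻¹ᵁ U : P.Opens) : Scheme.{u}) ≅ Proj (𝒮.deg U hU)}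
  {m n : ℤ} {L L' L'' : P.Modules}

theorem nonempty_tensor_twist_iso (hP : RelProj.IsRelProj 𝒮 p chart) (hgen : 𝒮.IsGenDegOne)
    {lam : Ident chart (fun U hU => GrTwist.twist (𝒮.deg U hU) m) L}
    {lam' : Ident chart (fun U hU => GrTwist.twist (𝒮.deg U hU) n) L'}
    {lam'' : Ident chart (fun U hU => GrTwist.twist (𝒮.deg U hU) (m + n)) L''}
    (hL : RelProj.IsRelTwist 𝒮 p chart m L lam) (hL' : RelProj.IsRelTwist 𝒮 p chart n L' lam')
    (hL'' : RelProj.IsRelTwist 𝒮 p chart (m + n) L'' lam'') :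
    Nonempty (CohB1.tensorMod L L' ≅ L'') := by
  refine nonempty_iso lam lam' lam'' (fun U hU => mulMap (𝒮.deg U hU) rfl)
    (fun hU hD h => resMap hP (m + n) hU hD h) (fun μ hμ => (existsUnique_lift hP hL'' μ hμ).exists)
    hL.bijective hL'.bijective hL''.bijective (fun U D hU hD h W s t => ?_)
    fun U hU y => exists_good_mul rfl (irrelevant_eq_span_degOne hgen U hU).le y
  obtain ⟨r, rfl⟩ := h
  refine GrTw11.sec_ext (n := m + n) fun y hy => ?_
  refine (resMap_val hP (m + n) hU hD ⟨r, rfl⟩ W _ y hy).trans ?_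
  refine (congrArg _ (val_mulMap rfl ((lam U hU).app W s) ((lam' U hU).app W t) _ _)).trans ?_
  refine ((map_mul _ _ _).trans ?_).trans (val_mulMap rfl ((lam _ hD).app W s) ((lam' _ hD).app W t) y hy).symm
  exact (congrArg₂ (· * ·) (hL.compat U hU r W s y hy (comap_mem hU hD ⟨r, rfl⟩ hy hP)).symm
    (hL'.compat U hU r W t y hy (comap_mem hU hD ⟨r, rfl⟩ hy hP)).symm)

theorem nonempty_tensor_tilde_iso (hP : RelProj.IsRelProj 𝒮 p chart) (hgen : 𝒮.IsGenDegOne)
    {k : ℤ} (hk : m + n = k) {ℳ : RelProj.GrModule 𝒮} (hℳ : Coh.IsQCoh (osMod ℳ))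
    {lam : Ident chart (fun U hU => GrMod.tilde (𝒮.deg U hU) (ℳ.deg U hU) m) L}
    {lam' : Ident chart (fun U hU => GrTwist.twist (𝒮.deg U hU) n) L'}
    {lam'' : Ident chart (fun U hU => GrMod.tilde (𝒮.deg U hU) (ℳ.deg U hU) k) L''}
    (hL : RelProj.IsRelTilde 𝒮 p chart ℳ m L lam) (hL' : RelProj.IsRelTwist 𝒮 p chart n L' lam')
    (hL'' : RelProj.IsRelTilde 𝒮 p chart ℳ k L'' lam'') :
    Nonempty (CohB1.tensorMod L L' ≅ L'') := by
  refine nonempty_iso lam lam' lam'' (fun U hU => pairMap (𝒮.deg U hU) (ℳ.deg U hU) hk)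
    (fun hU hD h => tresMap hP ℳ k hU hD h)
    (fun μ hμ => (((isSol_iff hP ℳ k hℳ).2 hL'').existsUnique_lift μ hμ).exists)
    hL.bijective hL'.bijective hL''.bijective (fun U D hU hD h W s t => ?_)
    fun U hU y => exists_good hk (irrelevant_eq_span_degOne hgen U hU).le y
  obtain ⟨r, rfl⟩ := h
  refine GrMod11.sec_ext (n := k) (ℳ := ℳ.deg _ hD) fun y hy => ?_
  refine (tresMap_val hP ℳ k hU hD ⟨r, rfl⟩ W _ y hy).trans ?_
  refine (congrArg _ (val_pairSec hk _ _ _ _)).trans ?_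
  refine ((GrMod.locModMap_smul _ _ _ _ _ _).trans ?_).trans (val_pairSec hk _ _ y hy).symm
  exact (congrArg₂ (· • ·) (hL'.compat U hU r W t y hy (comap_mem hU hD ⟨r, rfl⟩ hy hP)).symm
    (hL.compat U hU r W s y hy (comap_mem hU hD ⟨r, rfl⟩ hy hP)).symm)

end Groth.Agent.TwTensor11
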