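import Groth.Agent.Lib.TensorMod.Hom
import Groth.Agent.Lib.ModM1.Exact
import Groth.Agent.Lib.ModM1.Loc

/-!
When a pairing with a module generated locally by one section gives an isomorphism.
-/

set_option autoImplicit false

universe u

open CategoryTheory MonoidalCategory Limits AlgebraicGeometry TopologicalSpace Opposite TensorProduct

namespace Groth.Agent.TwTensor11

open Groth.Agent.M2

variable {X : Scheme.{u}} {M N K : X.Modules}

theorem exists_germ_tsec {x : X} {U : X.Opens} (hx : x ∈ U) (e : Γ(N, U))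
    (hgen : ∀ (V : X.Opens) (h : V ≤ U) (t : Γ(N, V)), ∃ r : Γ(X, V), r • res N h e = t)
    (z : (CohB1.tensorMod M N).presheaf.stalk x) :
    ∃ (V : X.Opens) (h : V ≤ U) (hxV : x ∈ V) (s : Γ(M, V)),
      (CohB1.tensorMod M N).presheaf.germ V x hxV (tsec M N s (res N h e)) = z := by
  obtain ⟨w, rfl⟩ := (stalkEquiv M N x).symm.surjective z
  induction w using TensorProduct.induction_on with
  | zero =>
    refine ⟨U, le_rfl, hx, 0, (stalkEquiv M N x).injective ?_⟩
    rw [stalkEquiv_tsec, LinearEquiv.apply_symm_apply,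
      show M.presheaf.germ U x hx (0 : Γ(M, U)) = 0 from map_zero _, TensorProduct.zero_tmul]
  | tmul a b =>
    obtain ⟨A, hxA, a', rfl⟩ := TopCat.Presheaf.exists_germ_eq M.presheaf a
    obtain ⟨B, hxB, b', rfl⟩ := TopCat.Presheaf.exists_germ_eq N.presheaf b
    let V : X.Opens := A ⊓ B ⊓ U
    obtain ⟨r, hr⟩ := hgen V inf_le_right (res N (inf_le_left.trans inf_le_right : V ≤ B) b')
    refine ⟨V, inf_le_right, ⟨⟨hxA, hxB⟩, hx⟩, r • res M (inf_le_left.trans inf_le_left : V ≤ A) a',
      (stalkEquiv M N x).injective ?_⟩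
    rw [tsec_smul_left, ← tsec_smul_right, hr, stalkEquiv_tsec, LinearEquiv.apply_symm_apply]
    exact congrArg₂ (· ⊗ₜ ·)
      (TopCat.Presheaf.germ_res_apply M.presheaf (homOfLE (inf_le_left.trans inf_le_left : V ≤ A)) x _ a')
      (TopCat.Presheaf.germ_res_apply N.presheaf (homOfLE (inf_le_left.trans inf_le_right : V ≤ B)) x _ b')
  | add a b ha hb =>
    obtain ⟨A, hA, hxA, s, hs⟩ := ha
    obtain ⟨B, hB, hxB, t, ht⟩ := hb
    refine ⟨A ⊓ B, inf_le_left.trans hA, ⟨hxA, hxB⟩,
      res M (inf_le_left : A ⊓ B ≤ A) s + res M (inf_le_right : A ⊓ B ≤ B) t, ?_⟩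
    rw [tsec_add_left, map_add, map_add, ← hs, ← ht]
    congr 1
    · rw [← TopCat.Presheaf.germ_res_apply (CohB1.tensorMod M N).presheaf (homOfLE (inf_le_left : A ⊓ B ≤ A)) x ⟨hxA, hxB⟩]
      refine congrArg _ (Eq.trans ?_ (res_tsec (inf_le_left : A ⊓ B ≤ A) s _).symm)
      exact congrArg (tsec M N _) (M1.mres_mres N hA inf_le_left e).symm
    · rw [← TopCat.Presheaf.germ_res_apply (CohB1.tensorMod M N).presheaf (homOfLE (inf_le_right : A ⊓ B ≤ B)) x ⟨hxA, hxB⟩]
      refine congrArg _ (Eq.trans ?_ (res_tsec (inf_le_right : A ⊓ B ≤ B) t _).symm)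
      exact congrArg (tsec M N _) (M1.mres_mres N hB inf_le_right e).symm

/-- The pairing is an isomorphism, `N` being generated near each point by one section pairing bijectively. -/
theorem isIso_mkHom (b : BiMap M N K)
    (h : ∀ x : X, ∃ (U : X.Opens) (_ : x ∈ U) (e : Γ(N, U)),
      (∀ (V : X.Opens) (hV : V ≤ U) (t : Γ(N, V)), ∃ r : Γ(X, V), r • res N hV e = t) ∧
      ∀ (V : X.Opens) (hV : V ≤ U), Function.Bijective fun s : Γ(M, V) => b.f V s (res N hV e)) :
    IsIso (mkHom b) := by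
  refine (M1.isIso_iff_stalk _).2 fun x => ?_
  obtain ⟨U, hx, e, hgen, hbij⟩ := h x
  refine ⟨(injective_iff_map_eq_zero _).2 fun z hz => ?_, fun k => ?_⟩
  · obtain ⟨V, hV, hxV, s, rfl⟩ := exists_germ_tsec hx e hgen z
    have h1 : K.presheaf.germ V x hxV (b.f V s (res N hV e)) = K.presheaf.germ V x hxV 0 := by
      rw [map_zero]
      refine Eq.trans ?_ hz
      rw [← mkHom_tsec b s]
      exact (TopCat.Presheaf.stalkFunctor_map_germ_apply V x hxV (mkHom b).mapPresheaf _).symm
    obtain ⟨W, hxW, i, i', hW⟩ := TopCat.Presheaf.germ_eq K.presheaf x hxV hxV _ _ h1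
    have hs : res M (leOfHom i) s = 0 := by
      refine (hbij W ((leOfHom i).trans hV)).1 ?_
      have e0 : b.f W 0 (res N ((leOfHom i).trans hV) e) = 0 := by
        have := b.add_left W 0 0 (res N ((leOfHom i).trans hV) e)
        rw [add_zero] at this
        exact left_eq_add.1 this
      show b.f W (res M (leOfHom i) s) (res N ((leOfHom i).trans hV) e) = b.f W 0 _
      rw [e0, show res N ((leOfHom i).trans hV) e = res N (leOfHom i) (res N hV e) from (M1.mres_mres N _ _ e).symm,
        b.compat]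
      exact hW.trans (map_zero _)
    rw [← TopCat.Presheaf.germ_res_apply (CohB1.tensorMod M N).presheaf i x hxW]
    refine Eq.trans (congrArg _ ((res_tsec (leOfHom i) s (res N hV e)).trans ?_)) (map_zero _)
    rw [hs]
    have := tsec_add_left (0 : Γ(M, W)) 0 (res N (leOfHom i) (res N hV e))
    rw [add_zero] at this
    exact left_eq_add.1 this
  · obtain ⟨V, hxV, k', rfl⟩ := TopCat.Presheaf.exists_germ_eq K.presheaf k
    obtain ⟨s, hs⟩ := (hbij (V ⊓ U) inf_le_right).2 (res K (inf_le_left : V ⊓ U ≤ V) k')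
    refine ⟨(CohB1.tensorMod M N).presheaf.germ (V ⊓ U) x ⟨hxV, hx⟩ (tsec M N s (res N inf_le_right e)), ?_⟩
    refine (TopCat.Presheaf.stalkFunctor_map_germ_apply (V ⊓ U) x ⟨hxV, hx⟩ (mkHom b).mapPresheaf _).trans ?_
    refine (congrArg _ ((mkHom_tsec b s _).trans hs)).trans ?_
    exact TopCat.Presheaf.germ_res_apply K.presheaf (homOfLE (inf_le_left : V ⊓ U ≤ V)) x _ k'

end Groth.Agent.TwTensor11
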