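import Groth.Agent.Lib.TwTensor11.Pair

/-!
The multiplication `O(m) × O(n) → O(m + n)`.
-/

set_option autoImplicit false

open CategoryTheory CategoryTheory.Limits AlgebraicGeometry TopologicalSpace Opposite

universe u

namespace Groth.Agent.TwTensor11

open Groth.Agent.M2

variable {A σ : Type u} [CommRing A] [SetLike σ A] [AddSubgroupClass σ A] {𝒜 : ℕ → σ} [GradedRing 𝒜]

variable {m n k : ℤ}

theorem val_smul_twist {U : (Proj 𝒜).Opens} (r : Γ(Proj 𝒜, U)) (f : Γ(GrTwist.twist 𝒜 n, U))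
    (x : ProjectiveSpectrum 𝒜) (hx : x ∈ U) :
    GrTw11.val (n := n) (r • f) x hx = GrTw11.valO r x hx * GrTw11.val (n := n) f x hx :=
  GrTwist.coe_smul_val n x (r.1 ⟨x, hx⟩) _

variable (𝒜) in
/-- Multiplication, as a bilinear datum. -/
noncomputable def mulMap (hk : m + n = k) :
    BiMap (GrTwist.twist 𝒜 m) (GrTwist.twist 𝒜 n) (GrTwist.twist 𝒜 k) where
  f _ s t := GrTw11.castSec hk (GrTw11.mulSec s t)
  add_left U s s' t := GrTw11.sec_ext fun x hx => by
    change _ = GrTw11.val (GrTw11.castSec hk (GrTw11.mulSec s t)) x hx +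
      GrTw11.val (GrTw11.castSec hk (GrTw11.mulSec s' t)) x hx
    simp only [GrTw11.val_castSec, GrTw11.val_mulSec]
    exact add_mul _ _ _
  smul_left U r s t := GrTw11.sec_ext fun x hx => by
    rw [val_smul_twist, GrTw11.val_castSec, GrTw11.val_castSec, GrTw11.val_mulSec, GrTw11.val_mulSec,
      val_smul_twist, mul_assoc]
  add_right U s t t' := GrTw11.sec_ext fun x hx => by
    change _ = GrTw11.val (GrTw11.castSec hk (GrTw11.mulSec s t)) x hx +
      GrTw11.val (GrTw11.castSec hk (GrTw11.mulSec s t')) x hx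
    simp only [GrTw11.val_castSec, GrTw11.val_mulSec]
    exact mul_add _ _ _
  smul_right U r s t := GrTw11.sec_ext fun x hx => by
    rw [val_smul_twist, GrTw11.val_castSec, GrTw11.val_castSec, GrTw11.val_mulSec, GrTw11.val_mulSec,
      val_smul_twist, mul_left_comm]
  compat h s t := GrTw11.sec_ext fun x hx => by
    change _ = GrTw11.val (GrTw11.castSec hk (GrTw11.mulSec s t)) x (h hx)
    simp only [GrTw11.val_castSec, GrTw11.val_mulSec]
    rfl

theorem val_mulMap (hk : m + n = k) {U : (Proj 𝒜).Opens} (s : Γ(GrTwist.twist 𝒜 m, U))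
    (t : Γ(GrTwist.twist 𝒜 n, U)) (x : ProjectiveSpectrum 𝒜) (hx : x ∈ U) :
    GrTw11.val (n := k) ((mulMap 𝒜 hk).f U s t) x hx = GrTw11.val (n := m) s x hx * GrTw11.val (n := n) t x hx :=
  (GrTw11.val_castSec hk _ x hx).trans (GrTw11.val_mulSec (U := U) s t x hx)

/-- A frame multiplies bijectively. -/
theorem bijective_mulMap (hk : m + n = k) {U : (Proj 𝒜).Opens} (e : GrTw11.Sec (𝒜 := 𝒜) n U)
    (e' : GrTw11.Sec (𝒜 := 𝒜) (-n) U) (he : ∀ x hx, GrTw11.val e x hx * GrTw11.val e' x hx = 1) :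
    Function.Bijective fun s : Γ(GrTwist.twist 𝒜 m, U) => (mulMap 𝒜 hk).f U s e := by
  refine Function.bijective_iff_has_inverse.2
    ⟨fun w => (mulMap 𝒜 (show k + -n = m by omega)).f U w e',
      fun s => GrTw11.sec_ext fun x hx => ?_, fun w => GrTw11.sec_ext fun x hx => ?_⟩
  · refine (val_mulMap _ ((mulMap 𝒜 hk).f U s e) e' x hx).trans ?_
    rw [val_mulMap hk s e x hx, mul_assoc, he, mul_one]
  · refine (val_mulMap hk ((mulMap 𝒜 (show k + -n = m by omega)).f U w e') e x hx).trans ?_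
    rw [val_mulMap _ w e' x hx, mul_assoc, mul_comm (GrTw11.val e' x hx), he, mul_one]

/-- Near each point some section of `O(n)` multiplies bijectively and generates. -/
theorem exists_good_mul (hk : m + n = k)
    (hgen : (HomogeneousIdeal.irrelevant 𝒜).toIdeal ≤ Ideal.span (𝒜 1 : Set A)) (x : Proj 𝒜) :
    ∃ (U : (Proj 𝒜).Opens) (_ : x ∈ U) (e : Γ(GrTwist.twist 𝒜 n, U)),
      (∀ (V : (Proj 𝒜).Opens) (hV : V ≤ U) (t : Γ(GrTwist.twist 𝒜 n, V)),
        ∃ r : Γ(Proj 𝒜, V), r • res (GrTwist.twist 𝒜 n) hV e = t) ∧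
      ∀ (V : (Proj 𝒜).Opens) (hV : V ≤ U), Function.Bijective
        fun s : Γ(GrTwist.twist 𝒜 m, V) => (mulMap 𝒜 hk).f V s (res (GrTwist.twist 𝒜 n) hV e) := by
  obtain ⟨g, hg, hxg⟩ := exists_degOne_notMem hgen x
  obtain ⟨e, e', he⟩ := exists_frame n hg
  exact ⟨Proj.basicOpen 𝒜 g, hxg, e, fun V hV t => exists_smul_eq hV e e' he t, fun V hV =>
    bijective_mulMap hk _ (GrTwist.resN (-n) (homOfLE hV).op e') fun y hy => he y (hV hy)⟩

end Groth.Agent.TwTensor11
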