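import Groth.Agent.Lib.TwTensor11.Mul
import Groth.Agent.Lib.RelProj11.RelTildeMain
import Groth.Agent.Lib.RelProj11.TFTN

/-!
Pairings on the charts of a relative `Proj` give isomorphisms out of tensor products.
-/

set_option autoImplicit false

open CategoryTheory CategoryTheory.Limits AlgebraicGeometry TopologicalSpace Opposite

universe u

namespace Groth.Agent.TwTensor11

open Groth.Agent.M2 Groth.Agent.RelProj11

variable {S P : Scheme.{u}} {𝒮 : RelProj.QCGrAlg S} {p : P ⟶ S}
  {chart : ∀ (U : S.Opens) (hU : IsAffineOpen U), ((p ⁻¹ᵁ U : P.Opens) : Scheme.{u}) ≅ Proj (𝒮.deg U hU)}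
  {A B C : ∀ (U : S.Opens) (hU : IsAffineOpen U), (Proj (𝒮.deg U hU)).Modules}
  {L L' L'' : P.Modules}

variable (chart) in
/-- A family of identifications with modules on the charts. -/
abbrev Ident (A : ∀ (U : S.Opens) (hU : IsAffineOpen U), (Proj (𝒮.deg U hU)).Modules) (L : P.Modules) : Type u :=
  ∀ (U : S.Opens) (hU : IsAffineOpen U), L ⟶ (Scheme.Modules.pushforward (RelProj.emb p chart U hU)).obj (A U hU)

variable (lamA : Ident chart A L) (lamB : Ident chart B L') (lamC : Ident chart C L'')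
  (b : ∀ (U : S.Opens) (hU : IsAffineOpen U), BiMap (A U hU) (B U hU) (C U hU))

/-- The pairing of a chart, on `P`. -/
noncomputable def chartMap (U : S.Opens) (hU : IsAffineOpen U) :
    BiMap L L' ((Scheme.Modules.pushforward (RelProj.emb p chart U hU)).obj (C U hU)) where
  f W s t := (b U hU).f (RelProj.emb p chart U hU ⁻¹ᵁ W) ((lamA U hU).app W s) ((lamB U hU).app W t)
  add_left W s s' t := by rw [map_add]; exact (b U hU).add_left _ _ _ _
  smul_left W r s t := by rw [Scheme.Modules.Hom.app_smul]; exact (b U hU).smul_left _ _ _ _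
  add_right W s t t' := by rw [map_add]; exact (b U hU).add_right _ _ _ _
  smul_right W r s t := by rw [Scheme.Modules.Hom.app_smul]; exact (b U hU).smul_right _ _ _ _
  compat {W V} h s t := by
    rw [M1.app_mres (lamA U hU) h s, M1.app_mres (lamB U hU) h t]
    exact (b U hU).compat ((RelProj.emb p chart U hU).preimage_mono h) _ _

theorem nonempty_iso (rC : ∀ {U D : S.Opens} (hU : IsAffineOpen U) (hD : IsAffineOpen D), IsBasic U D →
      ((Scheme.Modules.pushforward (RelProj.emb p chart U hU)).obj (C U hU) ⟶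
        (Scheme.Modules.pushforward (RelProj.emb p chart D hD)).obj (C D hD)))
    (hlift : ∀ (μ : Ident chart C (CohB1.tensorMod L L')),
      (∀ (U D : S.Opens) (hU : IsAffineOpen U) (hD : IsAffineOpen D) (h : IsBasic U D),
        μ U hU ≫ rC hU hD h = μ D hD) → ∃ ν, ∀ (U : S.Opens) (hU : IsAffineOpen U), ν ≫ lamC U hU = μ U hU)
    (hbijA : ∀ (U : S.Opens) (hU : IsAffineOpen U) (W : P.Opens), W ≤ p ⁻¹ᵁ U → Function.Bijective ((lamA U hU).app W))
    (hbijB : ∀ (U : S.Opens) (hU : IsAffineOpen U) (W : P.Opens), W ≤ p ⁻¹ᵁ U → Function.Bijective ((lamB U hU).app W))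
    (hbijC : ∀ (U : S.Opens) (hU : IsAffineOpen U) (W : P.Opens), W ≤ p ⁻¹ᵁ U → Function.Bijective ((lamC U hU).app W))
    (hb : ∀ (U D : S.Opens) (hU : IsAffineOpen U) (hD : IsAffineOpen D) (h : IsBasic U D) (W : P.Opens)
      (s : Γ(L, W)) (t : Γ(L', W)),
      (rC hU hD h).app W ((chartMap lamA lamB b U hU).f W s t) = (chartMap lamA lamB b D hD).f W s t)
    (hgood : ∀ (U : S.Opens) (hU : IsAffineOpen U) (y : Proj (𝒮.deg U hU)),
      ∃ (O : (Proj (𝒮.deg U hU)).Opens) (_ : y ∈ O) (e : Γ(B U hU, O)),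
        (∀ (V : (Proj (𝒮.deg U hU)).Opens) (hV : V ≤ O) (t : Γ(B U hU, V)),
          ∃ r : Γ(Proj (𝒮.deg U hU), V), r • res (B U hU) hV e = t) ∧
        ∀ (V : (Proj (𝒮.deg U hU)).Opens) (hV : V ≤ O), Function.Bijective
          fun s : Γ(A U hU, V) => (b U hU).f V s (res (B U hU) hV e)) :
    Nonempty (CohB1.tensorMod L L' ≅ L'') := by
  obtain ⟨ν, hν⟩ := hlift (fun U hU => mkHom (chartMap lamA lamB b U hU)) fun U D hU hD h => by
    refine tensorMod_hom_ext fun W s t => ?_
    rw [Scheme.Modules.Hom.comp_app]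
    exact ((congrArg _ (mkHom_tsec _ s t)).trans (hb U D hU hD h W s t)).trans (mkHom_tsec _ s t).symm
  let β : BiMap L L' L'' :=
    { f := fun W s t => ν.app W (tsec L L' s t)
      add_left := fun W s s' t => by rw [tsec_add_left, map_add]
      smul_left := fun W r s t => by rw [tsec_smul_left, Scheme.Modules.Hom.app_smul]
      add_right := fun W s t t' => by rw [tsec_add_right, map_add]
      smul_right := fun W r s t => by rw [tsec_smul_right, Scheme.Modules.Hom.app_smul]
      compat := fun h s t => by rw [← res_tsec h s t]; exact M1.app_mres ν h _ }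
  have hβ : mkHom β = ν := tensorMod_hom_ext fun W s t => mkHom_tsec β s t
  suffices IsIso (mkHom β) by
    rw [hβ] at this
    exact ⟨asIso ν⟩
  have key : ∀ (U : S.Opens) (hU : IsAffineOpen U) (W : P.Opens) (s : Γ(L, W)) (t : Γ(L', W)),
      (lamC U hU).app W (β.f W s t) = (chartMap lamA lamB b U hU).f W s t := fun U hU W s t =>
    (congr($(congrArg (fun φ => Scheme.Modules.Hom.app φ W) (hν U hU)) (tsec L L' s t))).trans (mkHom_tsec _ s t)
  refine isIso_mkHom β fun x => ?_
  obtain ⟨U, hU, y, rfl⟩ := exists_emb_eq (chart := chart) x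
  obtain ⟨O, hy, e, hgen, hbij⟩ := hgood U hU y
  let W₀ := RelProj.emb p chart U hU ''ᵁ O
  have hW₀ : W₀ ≤ p ⁻¹ᵁ U := image_emb_le O
  have hpre : RelProj.emb p chart U hU ⁻¹ᵁ W₀ = O := (RelProj.emb p chart U hU).preimage_image_eq O
  obtain ⟨e₀, he₀⟩ := (hbijB U hU W₀ hW₀).2 (res (B U hU) hpre.le e)
  have he : ∀ (V : P.Opens) (hV : V ≤ W₀), (lamB U hU).app V (res L' hV e₀) =
      res (B U hU) (((RelProj.emb p chart U hU).preimage_mono hV).trans hpre.le) e := fun V hV =>
    ((M1.app_mres (lamB U hU) hV e₀).trans (congrArg _ he₀)).trans (M1.mres_mres (B U hU) _ _ e)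
  refine ⟨W₀, ⟨y, hy, rfl⟩, e₀, fun V hV t => ?_, fun V hV => ?_⟩
  · obtain ⟨r₀, hr₀⟩ := hgen _ (((RelProj.emb p chart U hU).preimage_mono hV).trans hpre.le) ((lamB U hU).app V t)
    haveI : IsIso ((RelProj.emb p chart U hU).app V) := (RelProj.emb p chart U hU).isIso_app V
      (hV.trans ((RelProj.emb p chart U hU).image_le_opensRange O))
    obtain ⟨r, rfl⟩ := (ConcreteCategory.bijective_of_isIso ((RelProj.emb p chart U hU).app V)).2 r₀
    refine ⟨r, (hbijB U hU V (hV.trans hW₀)).1 ?_⟩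
    rw [Scheme.Modules.Hom.app_smul, he V hV]
    exact hr₀
  · refine (Function.Bijective.of_comp_iff' (hbijC U hU V (hV.trans hW₀)) _).1 ?_
    have e1 : (⇑((lamC U hU).app V) ∘ fun s : Γ(L, V) => β.f V s (res L' hV e₀)) =
        (fun s' => (b U hU).f _ s' (res (B U hU) (((RelProj.emb p chart U hU).preimage_mono hV).trans hpre.le) e)) ∘
          ⇑((lamA U hU).app V) := funext fun s => by
      refine (key U hU V s _).trans ?_
      show (b U hU).f _ _ ((lamB U hU).app V (res L' hV e₀)) = _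
      rw [he V hV]
      rfl
    rw [e1]
    exact (hbij _ _).comp (hbijA U hU V (hV.trans hW₀))

end Groth.Agent.TwTensor11
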